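import Cfsg.Agent.H95.JT.Uni
import Cfsg.Agent.H915.LD
import Cfsg.Agent.H921.SporJ3
import Cfsg.Agent.H1.RealCover
import Cfsg.Agent.S2041

/-!
# Cores with socle `J₃` of degree at most 12 (helper95)

`j3 p hC h hn` : then `p = 2`, the degree is 9, `|Z(P)| = 3`, and `tr g ^ 2 = tr g⁻¹` on `P`.
-/

set_option autoImplicit false
set_option linter.unusedSectionVars false

namespace Cfsg.Agent.H95.JT

open Cfsg Cfsg.Geo Matrix Cfsg.Agent.H915.LD Cfsg.Spor Cfsg.Agent.J3.Core Cfsg.Agent.J3.Nineteen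
open Cfsg.Agent.H48.J3Three Cfsg.Agent.H51.Mult Cfsg.Agent.H48.Crit Cfsg.Agent.J3.Tab Cfsg.Agent.J3.Mono Cfsg.Agent.J3.Elts

universe u v

section

variable {ι : Type} [Fintype ι] [DecidableEq ι] {F : Type u} [Field F] {P : Subgroup (GL ι F)}

/-- reindexing -/
noncomputable def reix (ι : Type) [Fintype ι] [DecidableEq ι] (F : Type u) [Field F] :
    GL ι F ≃* GL (Fin (Fintype.card ι)) F :=
  Units.mapEquiv (Matrix.reindexAlgEquiv F F (Fintype.equivFin ι)).toMulEquiv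

theorem pr_of_core {T : Type v} [Group T] (e : Soc P ≃* T) {r : ℕ}
    (hr : (Nat.card ((scalars ι F).subgroupOf P)).Coprime r) : H912.Bd.PR F (Fintype.card ι) r T := by
  have h1 := ker_comp e
  refine ⟨P, inferInstance, e.toMonoidHom.comp (toSoc P), (reix ι F).toMonoidHom.comp P.subtype,
    e.surjective.comp (toSoc_surjective P), ?_, ?_, ?_⟩
  · intro x hx y
    have h2 : x ∈ (e.toMonoidHom.comp (toSoc P)).ker := hx
    rw [h1] at h2
    exact ((Subgroup.mem_center_iff.1 (scalars_le_center h2)) y).symm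
  · rw [h1]; exact hr
  · have h2 : Function.Injective ((reix ι F).toMonoidHom.comp P.subtype) :=
      (reix ι F).injective.comp P.subtype_injective
    rw [(MonoidHom.ker_eq_bot_iff _).2 h2]
    exact bot_le

variable {F₀ : Type} [Field F₀] [Fintype F₀] {ω : F₀}

theorem finite_J3 (hF : Fintype.card F₀ = 4) (H : Good ω) : Finite (Cfsg.Spor.J3 F₀ ω) :=
  Nat.finite_of_card_ne_zero (by rw [Cfsg.Agent.J3.Simple.card_J3 hF H]; norm_num)

theorem finite_threeJ3 (hF : Fintype.card F₀ = 4) (H : Good ω) : Finite (Cfsg.Spor.threeJ3 F₀ ω) :=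
  Nat.finite_of_card_ne_zero (by rw [Cfsg.Agent.J3.Order.card_threeJ3 hF H]; norm_num)

theorem commutator_threeJ3 (hF : Fintype.card F₀ = 4) (H : Good ω) : commutator (threeJ3 F₀ ω) = ⊤ :=
  (pce hF H).perf

theorem stem_pr (hF : Fintype.card F₀ = 4) (H : Good ω) : IsStemExtension (Cfsg.Agent.H48.J3Three.pr F₀ ω) :=
  ⟨pr_surjective, by rw [ker_pr], by rw [commutator_threeJ3 hF H]; exact le_top⟩

theorem card_A : Nat.card (Multiplicative (ZMod 3)) = 3 := by
  rw [Nat.card_congr (Multiplicative.toAdd (α := ZMod 3)), Nat.card_zmod]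

theorem card_scalars (hF : Fintype.card F₀ = 4) (hω : ω ^ 2 + ω + 1 = 0) (hC : Core P) (e : Soc P ≃* Cfsg.Spor.J3 F₀ ω) :
    Nat.card ((scalars ι F).subgroupOf P) = 1 ∨ Nat.card ((scalars ι F).subgroupOf P) = 3 := by
  have h1 := hC.card_scalars_dvd e (Cfsg.Agent.S2041.result hF ω hω)
  rw [card_A] at h1
  exact (Nat.dvd_prime Nat.prime_three).1 h1

/-- the degree is at least 15 in odd characteristic -/
theorem two_eq_zero (hF : Fintype.card F₀ = 4) (hω : ω ^ 2 + ω + 1 = 0) (hC : Core P)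
    (e : Soc P ≃* Cfsg.Spor.J3 F₀ ω) (hn : Fintype.card ι < 15) : (2 : F) = 0 := by
  by_contra h2
  have H := good_of_card hF hω
  have h3 : (Nat.card ((scalars ι F).subgroupOf P)).Coprime 2 := by
    rcases card_scalars hF hω hC e with h | h <;> rw [h] <;> norm_num
  have h4 := (Cfsg.Agent.H921.Spor.J3.J3_two hF H).bd (F := F) Nat.prime_two (by exact_mod_cast h2) _ (pr_of_core e h3)
  omega

theorem card_eq_three (hF : Fintype.card F₀ = 4) (hω : ω ^ 2 + ω + 1 = 0) (hC : Core P)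
    (e : Soc P ≃* Cfsg.Spor.J3 F₀ ω) (hn : Fintype.card ι < 15) : Nat.card ((scalars ι F).subgroupOf P) = 3 := by
  rcases card_scalars hF hω hC e with h | h
  · exfalso
    have H := good_of_card hF hω
    have h2 := two_eq_zero hF hω hC e hn
    have h3 : (Nat.card ((scalars ι F).subgroupOf P)).Coprime 3 := by rw [h]; norm_num
    have h5 : ((3 : ℕ) : F) ≠ 0 := by
      intro h0
      apply one_ne_zero (α := F)
      have h6 : (1 : F) = ((3 : ℕ) : F) - 2 := by push_cast; ring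
      rw [h6, h0, h2, sub_zero]
    have h4 := (Cfsg.Agent.H921.Spor.J3.J3_three hF H).bd (F := F) Nat.prime_three h5 _ (pr_of_core e h3)
    omega
  · exact h

/-- the representation of `3·J₃` -/
noncomputable def rep (φ : threeJ3 F₀ ω →* P) : threeJ3 F₀ ω →* Module.End F (ι → F) :=
  (((Matrix.toLinAlgEquiv' : Matrix ι ι F ≃ₐ[F] _) : Matrix ι ι F →* Module.End F (ι → F)).comp
    (Units.coeHom (Matrix ι ι F))).comp (P.subtype.comp φ)

theorem rep_apply (φ : threeJ3 F₀ ω →* P) (g : threeJ3 F₀ ω) (v : ι → F) :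
    rep φ g v = ((φ g : GL ι F) : Matrix ι ι F) *ᵥ v := rfl

theorem trace_rep (φ : threeJ3 F₀ ω →* P) (g : threeJ3 F₀ ω) :
    LinearMap.trace F (ι → F) (rep φ g) = tr (φ g : GL ι F) :=
  Matrix.trace_toLin'_eq _

/-- **Cores with socle `J₃` of degree at most 14.** -/
theorem j3' (p : ℕ) [hp : Fact p.Prime] [CharP F p] (hC : Core P) (h : Spor.IsoJ3 (Soc P))
    (hn : Fintype.card ι < 15) :
    p = 2 ∧ Fintype.card ι = 9 ∧ Nat.card ((scalars ι F).subgroupOf P) = 3 ∧ Cj P 2 := by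
  obtain ⟨F₀, _, _, ω, hF, hω, ⟨e⟩⟩ := h
  have H₀ := good_of_card hF hω
  have h2 := two_eq_zero hF hω hC e hn
  have h3 := card_eq_three hF hω hC e hn
  have hp2 : p = 2 := by
    have h4 : ((2 : ℕ) : F) = 0 := by exact_mod_cast h2
    rw [CharP.cast_eq_zero_iff F p] at h4
    exact (Nat.prime_dvd_prime_iff_eq hp.out Nat.prime_two).1 h4
  subst hp2
  have hJ := finite_J3 hF H₀
  have hT := finite_threeJ3 hF H₀
  obtain ⟨φ, hφ, hφ2⟩ := Cfsg.Agent.H1.RealCover.cover_hom hC e (Cfsg.Agent.S2041.result hF ω hω)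
    (Cfsg.Agent.H48.J3Three.pr F₀ ω) (stem_pr hF H₀) (by rw [ker_pr, card_center hF H₀, card_A])
  obtain ⟨G⟩ := exists_gens hF H₀
  obtain ⟨s0, hs0⟩ := exists_scalar H₀ G
  have hcen := center_eq hF H₀ hs0
  have hs0c : s0 ∈ Subgroup.center (threeJ3 F₀ ω) := by rw [hcen]; exact Subgroup.mem_zpowers s0
  have hs3 : s0 ^ 3 = 1 := by
    apply mat_injective
    rw [map_pow, hs0, smul_pow, one_pow, H₀.cube, one_smul, map_one]
  have hker : ∀ z, φ z ∈ (scalars ι F).subgroupOf P ↔ z ∈ Subgroup.center (threeJ3 F₀ ω) := by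
    intro z
    rw [← Cfsg.Agent.H1.RealCover.ker_pj e, MonoidHom.mem_ker, hφ2, ← MonoidHom.mem_ker, ker_pr]
  obtain ⟨ζ', hζ⟩ := (mem_scalars_iff _).1 (Subgroup.mem_subgroupOf.1 ((hker s0).2 hs0c))
  obtain ⟨ζ, hζζ⟩ : ∃ ζ : F, (ζ' : F) = ζ := ⟨_, rfl⟩
  rw [hζζ] at hζ
  have hne : Nonempty ι := hC.nonempty
  have hζ3 : ζ ^ 3 = 1 := by
    have h4 : (((φ s0 ^ 3 : P) : GL ι F) : Matrix ι ι F) = 1 := by
      rw [← map_pow, hs3, map_one]; rfl
    rw [Subgroup.coe_pow, Units.val_pow_eq_pow_val, hζ, smul_pow, one_pow] at h4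
    have h5 := congrFun (congrFun h4 hne.some) hne.some
    rwa [Matrix.smul_apply, Matrix.one_apply_eq, smul_eq_mul, mul_one] at h5
  have hζ1 : ζ ≠ 1 := by
    intro h1
    have h4 : φ s0 = 1 := by
      apply Subtype.ext
      apply Units.ext
      rw [hζ, h1, one_smul]; rfl
    have h5 : (scalars ι F).subgroupOf P = ⊥ := by
      rw [Subgroup.eq_bot_iff_forall]
      intro x hx
      obtain ⟨z, rfl⟩ := hφ x
      rw [hker, hcen, Subgroup.mem_zpowers_iff] at hx
      obtain ⟨k, rfl⟩ := hx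
      rw [map_zpow, h4, _root_.one_zpow]
    rw [h5, Subgroup.card_bot] at h3
    omega
  have H : Good ζ := by
    refine ⟨by rw [one_add_one_eq_two]; exact h2, ?_⟩
    have h4 : (ζ - 1) * (ζ ^ 2 + ζ + 1) = 0 := by
      have : (ζ - 1) * (ζ ^ 2 + ζ + 1) = ζ ^ 3 - 1 := by ring
      rw [this, hζ3, sub_self]
    rcases mul_eq_zero.1 h4 with h | h
    · exact absurd (sub_eq_zero.1 h) hζ1
    · exact h
  have hfr : Module.finrank F (ι → F) = Fintype.card ι := Module.finrank_fintype_fun_eq_card F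
  have hM := main hF H₀ hs0 H (V := ι → F) (by rw [hfr]; omega) (rep φ) (fun v => by
    rw [rep_apply, hζ, Matrix.smul_mulVec, Matrix.one_mulVec]) (frobenius F 2) (fun x => frobenius_def 2 x)
  refine ⟨rfl, by rw [← hfr]; exact hM.1, h3, ?_⟩
  intro g hg
  obtain ⟨z, hz⟩ := hφ ⟨g, hg⟩
  have h4 := hM.2 z
  rw [trace_rep, trace_rep, map_inv, hz] at h4
  exact h4

/-- **Cores with socle `J₃` of degree at most 12.** -/
theorem j3 (p : ℕ) [hp : Fact p.Prime] [CharP F p] (hC : Core P) (h : Spor.IsoJ3 (Soc P))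
    (hn : Fintype.card ι ≤ 12) :
    p = 2 ∧ Fintype.card ι = 9 ∧ Nat.card ((scalars ι F).subgroupOf P) = 3 ∧ Cj P 2 :=
  j3' p hC h (by omega)

end

end Cfsg.Agent.H95.JT
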