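import Cfsg.Agent.H95.JT.Wt

/-!
# Representations of `3·J₃` in characteristic 2 of degree less than 18: the action on the basis (helper95)
-/

set_option autoImplicit false
set_option linter.unusedSectionVars false

namespace Cfsg.Agent.H95.JT

open Cfsg.Spor Cfsg.Agent.J3.Core Cfsg.Agent.J3.Tab Cfsg.Agent.J3.Mono Cfsg.Agent.J3.Elts Matrix
open Cfsg.Agent.H898.J3Three

theorem mul_one9 : ∀ z : F9, F9.mul z F9.one = z := by decide
theorem div_mul9 : ∀ z u : F9, u ≠ 0 → F9.div (F9.mul u z) u = z := by decide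
theorem mul_inv9 : ∀ z w y : F9, z ≠ 0 → (F9.mul (F9.inv z) y = w ↔ y = F9.mul z w) := by decide
theorem nrm_eq_zero : ∀ z : F9, nrm z = 0 ↔ z = 0 := by decide
theorem nrm_mul_self : ∀ z : F9, (z.1 * z.1 + z.2 * z.2).val = nrm z := by decide
theorem nrm_one_one : nrm F9.one = 1 := by decide

/-- the nine elements -/
def L9 : List F9 := [(0, 0), (0, 1), (0, 2), (1, 0), (1, 1), (1, 2), (2, 0), (2, 1), (2, 2)]

/-- the elements of norm one -/
def cm (y : F9) : ℕ :=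
  if y = (1, 0) then 1 else if y = (0, 1) then 2 else if y = (2, 0) then 3 else if y = (0, 2) then 4 else 0

/-- codes of the terms -/
def tc (x z w y : F9) : ℕ × ℕ × ℕ :=
  (cm (F9.mul z y), (y.1 * x.1 + y.2 * x.2).val, cm (F9.mul y w))

theorem cm_cases : ∀ y : F9, y = (1, 0) ∨ y = (0, 1) ∨ y = (2, 0) ∨ y = (0, 2) ∨ (nrm F9.one ≠ nrm y ∧ cm y = 0) := by
  decide


section
variable {F₀ : Type*} [Field F₀] {ω : F₀} (G : Gens F₀ ω) (H₀ : Good ω) {s0 : threeJ3 F₀ ω} (hs0 : mat ω s0 = ω • 1)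
  {F : Type*} [Field F] {ζ : F} (H : Good ζ) {V : Type*} [AddCommGroup V] [Module F V]
  (ρ : threeJ3 F₀ ω →* Module.End F V) (hρ : ∀ v, ρ s0 v = ζ • v)
  {v0 : V} (h0 : v0 ∈ W0 G ρ) (h1 : v0 ≠ 0) (hW : ∀ w ∈ W0 G ρ, ∃ c : F, w = c • v0)
  (b : Module.Basis F9 F V) (hb : ∀ z, b z = ρ (G.d z) v0)

theorem pow_app (g : threeJ3 F₀ ω) {c : F} {v : V} (h : ρ g v = c • v) (n : ℕ) : ρ (g ^ n) v = c ^ n • v := by
  induction n with
  | zero => rw [pow_zero, one_app, pow_zero, one_smul]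
  | succ n ih => rw [pow_succ, mul_app, h, map_smul, ih, smul_smul, pow_succ, mul_comm]

theorem pow_mod (H : Good ζ) (n : ℕ) : ζ ^ (3 * n) = 1 := by rw [pow_mul, H.cube, one_pow]

include H₀ h0

theorem b_mem {u : F9} (hu : u ≠ 0) : ρ (G.b u) v0 ∈ W0 G ρ := by
  intro x
  rw [← mul_app, ab G H₀ x u hu, mul_app, h0]

theorem e_mem : ρ G.e v0 ∈ W0 G ρ := by
  intro x
  rw [← mul_app, ae G H₀, mul_app, h0]

include H h1 hW

theorem b_v0 {u : F9} (hu : u ≠ 0) : ρ (G.b u) v0 = v0 := by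
  obtain ⟨c, hc⟩ := hW _ (b_mem G H₀ ρ h0 hu)
  have h2 := pow_app ρ (G.b u) hc 8
  rw [b_pow G H₀ u hu, one_app] at h2
  have h3 : (c ^ 8 - 1) • v0 = 0 := by rw [sub_smul, one_smul, ← h2, sub_self]
  have h4 : c ^ 8 = 1 := sub_eq_zero.1 ((smul_eq_zero.1 h3).resolve_right h1)
  rw [hc, eight_one H h4, one_smul]

theorem e_v0 : ρ G.e v0 = v0 := by
  obtain ⟨c, hc⟩ := hW _ (e_mem G H₀ ρ h0)
  have hu : ((1, 1) : F9) ≠ 0 := by decide
  have h2 := congrArg (fun g => ρ g v0) (eb G H₀)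
  simp only [mul_app] at h2
  rw [b_v0 G H₀ H ρ h0 h1 hW hu, hc, pow_app ρ G.e hc 2, map_smul, b_v0 G H₀ H ρ h0 h1 hW hu] at h2
  have h3 : (c - c ^ 2) • v0 = 0 := by rw [sub_smul, h2, sub_self]
  have h4 : c - c ^ 2 = 0 := (smul_eq_zero.1 h3).resolve_right h1
  have hc0 : c ≠ 0 := by
    rintro rfl
    rw [zero_smul] at hc
    exact h1 (app_inj ρ G.e (by rw [hc, map_zero]))
  have h5 : c * (1 - c) = 0 := by linear_combination h4
  have h6 : c = 1 := (sub_eq_zero.1 ((mul_eq_zero.1 h5).resolve_left hc0)).symm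
  rw [hc, h6, one_smul]

omit H₀ H h1 hW in
include hb in
theorem b_zero (H₀ : Good ω) : b 0 = v0 := by rw [hb, d_zero G H₀, one_app]

include hs0 hρ hb

omit h1 hW in
theorem a_b (x z : F9) : ρ (G.a x) (b z) = ch ζ z x • b z := by
  rw [hb, a_d G H₀ hs0 H ρ hρ, h0]

theorem e_b (z : F9) : ρ G.e (b z) = ζ ^ nrm z • b z := by
  have h2 := congrArg (fun g => ρ g v0) (de G H₀ hs0 z)
  simp only [mul_app] at h2
  rw [e_v0 G H₀ H ρ h0 h1 hW, s0_pow_app ρ hρ, ← hb, a_b G H₀ hs0 H ρ hρ h0 b hb, map_smul, smul_smul] at h2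
  unfold ch at h2
  rw [nrm_mul_self, ← pow_add] at h2
  have h3 : ζ ^ nrm z • b z = ζ ^ nrm z • (ζ ^ (nrm z + nrm z) • ρ G.e (b z)) := by rw [← h2]
  rw [smul_smul, ← pow_add] at h3
  have h4 : ζ ^ (nrm z + (nrm z + nrm z)) = 1 := by
    rw [show nrm z + (nrm z + nrm z) = 3 * nrm z by ring]; exact pow_mod H _
  rw [h4, one_smul] at h3
  exact h3.symm

theorem b_b {u : F9} (hu : u ≠ 0) (z : F9) : ρ (G.b u) (b z) = b (F9.mul u z) := by
  have h2 := congrArg (fun g => ρ g v0) (db G H₀ (F9.mul u z) u hu)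
  simp only [mul_app] at h2
  rw [b_v0 G H₀ H ρ h0 h1 hW hu, div_mul9 z u hu, ← hb, ← hb] at h2
  exact h2.symm

theorem d_b (w z : F9) : ∃ n : ℕ, ρ (G.d w) (b z) = ζ ^ n • b (w + z) := by
  obtain ⟨s, k, x, h⟩ := dd G H₀ hs0 w z
  have h2 := congrArg (fun g => ρ g v0) h
  simp only [mul_app] at h2
  rw [← hb, ← hb, s0_pow_app ρ hρ, a_b G H₀ hs0 H ρ hρ h0 b hb, map_smul,
    pow_app ρ G.e (e_b G H₀ hs0 H ρ hρ h0 h1 hW b hb _), smul_smul, smul_smul] at h2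
  unfold ch at h2
  rw [← pow_mul, ← pow_add, ← pow_add] at h2
  exact ⟨_, h2⟩

/-- `c` preserves the eigenspaces of `e` -/
theorem c_repr {z w : F9} (hzw : nrm z ≠ nrm w) : b.repr (ρ G.c (b z)) w = 0 := by
  have h2 := congrArg (fun g => ρ g (b z)) (ce G H₀)
  simp only [mul_app] at h2
  rw [e_b G H₀ hs0 H ρ hρ h0 h1 hW b hb, map_smul] at h2
  have h3 : ρ G.e (ρ G.c (b z)) = ∑ y, (b.repr (ρ G.c (b z)) y * ζ ^ nrm y) • b y := by
    conv_lhs => rw [← b.sum_repr (ρ G.c (b z)), map_sum]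
    refine Finset.sum_congr rfl fun y _ => ?_
    rw [map_smul, e_b G H₀ hs0 H ρ hρ h0 h1 hW b hb, smul_smul]
  have h4 : b.repr (ρ G.e (ρ G.c (b z))) w = b.repr (ρ G.c (b z)) w * ζ ^ nrm w := by
    rw [h3, map_sum, Finsupp.finsetSum_apply, Finset.sum_eq_single w]
    · rw [map_smul, Finsupp.smul_apply, Module.Basis.repr_self, Finsupp.single_eq_same, smul_eq_mul, mul_one]
    · intro y _ hy
      rw [map_smul, Finsupp.smul_apply, Module.Basis.repr_self, Finsupp.single_eq_of_ne' hy, smul_zero]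
    · intro h; exact absurd (Finset.mem_univ _) h
  rw [← h2, map_smul, Finsupp.smul_apply, smul_eq_mul] at h4
  have h5 : (ζ ^ nrm z - ζ ^ nrm w) * b.repr (ρ G.c (b z)) w = 0 := by linear_combination h4
  refine (mul_eq_zero.1 h5).resolve_left ?_
  have key : ∀ m n : ℕ, m < 3 → n < 3 → m ≠ n → ζ ^ m - ζ ^ n ≠ 0 := by
    have e1 := H.ne_one
    have e2 := H.ne_zero
    have e3 := H.om
    have e4 := H.two
    intro m n hm hn hmn he
    interval_cases m <;> interval_cases n <;> first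
      | exact absurd rfl hmn
      | (apply e1; linear_combination he)
      | (apply e1; linear_combination -he)
      | (apply e1; linear_combination he + e3 + e4)
      | (apply e2; linear_combination he + e3 - e4)
      | (apply e2; linear_combination -he + e3 - e4)
      | (apply one_ne_zero (α := F); linear_combination he + e3 - ζ * e4)
      | (apply one_ne_zero (α := F); linear_combination -he + e3 - ζ * e4)
  exact key _ _ (nrm_lt z) (nrm_lt w) hzw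

theorem c_v0 : ρ G.c (b 0) = b 0 := by
  have h2 : ρ G.c (b 0) = b.repr (ρ G.c (b 0)) 0 • b 0 := by
    conv_lhs => rw [← b.sum_repr (ρ G.c (b 0))]
    rw [Finset.sum_eq_single 0]
    · intro y _ hy
      rw [c_repr G H₀ hs0 H ρ hρ h0 h1 hW b hb (z := 0) (w := y), zero_smul]
      intro h
      exact hy ((nrm_eq_zero y).1 (h.symm.trans ((nrm_eq_zero 0).2 rfl)))
    · intro h; exact absurd (Finset.mem_univ _) h
  set r := b.repr (ρ G.c (b 0)) 0 with hr
  have h3 : ρ G.c (ρ G.c (b 0)) = b 0 := by rw [← mul_app, c_sq G H₀, one_app]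
  rw [h2, map_smul, h2, smul_smul] at h3
  have h4 : (r * r - 1) • b 0 = 0 := by rw [sub_smul, one_smul, h3, sub_self]
  have h5 : r * r - 1 = 0 := (smul_eq_zero.1 h4).resolve_right (b.ne_zero 0)
  have h6 : r = 1 := two_one H (by linear_combination h5)
  rw [h2, h6, one_smul]

/-- the coefficients of `c` -/
theorem c_coef {z : F9} (hz : z ≠ 0) (w : F9) :
    b.repr (ρ G.c (b z)) w = b.repr (ρ G.c (b F9.one)) (F9.mul z w) := by
  have h2 : b z = ρ (G.b z) (b F9.one) := by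
    rw [b_b G H₀ hs0 H ρ hρ h0 h1 hW b hb hz, mul_one9]
  have h3 : ρ G.c (b z) = ∑ y, b.repr (ρ G.c (b F9.one)) y • b (F9.mul (F9.inv z) y) := by
    rw [h2, ← mul_app, cb G H₀ z hz, mul_app]
    conv_lhs => rw [← b.sum_repr (ρ G.c (b F9.one)), map_sum]
    refine Finset.sum_congr rfl fun y _ => ?_
    rw [map_smul, b_b G H₀ hs0 H ρ hρ h0 h1 hW b hb (inv_ne z hz)]
  rw [h3, map_sum, Finsupp.finsetSum_apply, Finset.sum_eq_single (F9.mul z w)]
  · rw [map_smul, Finsupp.smul_apply, Module.Basis.repr_self, (mul_inv9 z w _ hz).2 rfl, Finsupp.single_eq_same,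
      smul_eq_mul, mul_one]
  · intro y _ hy
    rw [map_smul, Finsupp.smul_apply, Module.Basis.repr_self, Finsupp.single_eq_of_ne', smul_zero]
    intro h
    exact hy ((mul_inv9 z w y hz).1 h)
  · intro h; exact absurd (Finset.mem_univ _) h

/-- the product `c a_x c` -/
theorem cac_coef (x : F9) {z : F9} (hz : z ≠ 0) (w : F9) : b.repr (ρ G.c (ρ (G.a x) (ρ G.c (b z)))) w =
    ∑ y, b.repr (ρ G.c (b F9.one)) (F9.mul z y) * (ch ζ y x * b.repr (ρ G.c (b F9.one)) (F9.mul y w)) := by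
  conv_lhs => rw [← b.sum_repr (ρ G.c (b z)), map_sum, map_sum, map_sum, Finsupp.finsetSum_apply]
  refine Finset.sum_congr rfl fun y _ => ?_
  rw [map_smul, map_smul, a_b G H₀ hs0 H ρ hρ h0 b hb, map_smul, map_smul, map_smul, Finsupp.smul_apply,
    Finsupp.smul_apply, smul_eq_mul, smul_eq_mul, c_coef G H₀ hs0 H ρ hρ h0 h1 hW b hb hz]
  by_cases hy : y = 0
  · subst hy
    have h2 : F9.mul z 0 = 0 := by revert z; decide
    rw [h2, c_repr G H₀ hs0 H ρ hρ h0 h1 hW b hb (z := F9.one) (w := 0) (by decide), zero_mul, zero_mul]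
  · rw [c_coef G H₀ hs0 H ρ hρ h0 h1 hW b hb hy]

/-- the coefficients -/
noncomputable def kp (b : Module.Basis F9 F V) (v : V) : ℕ → F
  | 1 => b.repr v (1, 0)
  | 2 => b.repr v (0, 1)
  | 3 => b.repr v (2, 0)
  | 4 => b.repr v (0, 2)
  | _ => 0

theorem coef_eq (y : F9) : b.repr (ρ G.c (b F9.one)) y = kp b (ρ G.c (b F9.one)) (cm y) := by
  rcases cm_cases y with h | h | h | h | ⟨h, h'⟩
  · subst h; rfl
  · subst h; rfl
  · subst h; rfl
  · subst h; rfl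
  · rw [c_repr G H₀ hs0 H ρ hρ h0 h1 hW b hb h, h']; rfl

theorem cac_list (x : F9) {z : F9} (hz : z ≠ 0) (w : F9) (L : List (ℕ × ℕ × ℕ)) (hL : L9.map (tc x z w) = L) :
    b.repr (ρ G.c (ρ (G.a x) (ρ G.c (b z)))) w = (L.map fun t => kp b (ρ G.c (b F9.one)) t.1 *
      (ζ ^ t.2.1 * kp b (ρ G.c (b F9.one)) t.2.2)).sum := by
  rw [cac_coef G H₀ hs0 H ρ hρ h0 h1 hW b hb x hz w, sum9, ← hL]
  simp only [coef_eq G H₀ hs0 H ρ hρ h0 h1 hW b hb]
  simp only [L9, tc, ch, List.map_cons, List.map_nil, List.sum_cons, List.sum_nil, add_zero, add_assoc]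

omit h1 hW in
theorem a_repr (x w : F9) (v : V) : b.repr (ρ (G.a x) v) w = ch ζ w x * b.repr v w := by
  have h2 : ρ (G.a x) v = ∑ y, (b.repr v y * ch ζ y x) • b y := by
    conv_lhs => rw [← b.sum_repr v, map_sum]
    refine Finset.sum_congr rfl fun y _ => ?_
    rw [map_smul, a_b G H₀ hs0 H ρ hρ h0 b hb, smul_smul]
  rw [h2, map_sum, Finsupp.finsetSum_apply, Finset.sum_eq_single w]
  · rw [map_smul, Finsupp.smul_apply, Module.Basis.repr_self, Finsupp.single_eq_same, smul_eq_mul, mul_one, mul_comm]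
  · intro y _ hy
    rw [map_smul, Finsupp.smul_apply, Module.Basis.repr_self, Finsupp.single_eq_of_ne' hy, smul_zero]
  · intro h; exact absurd (Finset.mem_univ _) h

/-- **the coefficients of `c`** -/
theorem solve : kp b (ρ G.c (b F9.one)) 1 = 0 ∧ kp b (ρ G.c (b F9.one)) 2 = 1 ∧ kp b (ρ G.c (b F9.one)) 3 = 1 ∧
    kp b (ρ G.c (b F9.one)) 4 = 1 := by
  have e3 := H.om
  have e4 := H.two
  have hz0 : kp b (ρ G.c (b F9.one)) 0 = 0 := rfl
  have hcl := fun x {z : F9} (hz : z ≠ 0) => cac_list G H₀ hs0 H ρ hρ h0 h1 hW b hb x hz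
  have har := a_repr G H₀ hs0 H ρ hρ h0 b hb
  have hab := a_b G H₀ hs0 H ρ hρ h0 b hb
  have hco := fun {z : F9} (hz : z ≠ 0) => c_coef G H₀ hs0 H ρ hρ h0 h1 hW b hb hz
  -- the three relations
  have R0 : ∀ v, ρ G.c (ρ (G.a 0) (ρ G.c v)) = v := by
    intro v
    rw [a_zero G H₀, one_app, ← mul_app, c_sq G H₀, one_app]
  have R4 : ∀ z w : F9, b.repr (ρ G.c (ρ (G.a (1, 0)) (ρ G.c (b z)))) w =
      ch ζ z (2, 0) * (ch ζ w (2, 0) * b.repr (ρ G.c (ρ (G.a (2, 0)) (ρ G.c (b z)))) w) := by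
    intro z w
    have h2 := congrArg (fun g => ρ g (b z)) (four G H₀)
    simp only [mul_app] at h2
    rw [h2, hab, map_smul, map_smul, map_smul, map_smul, map_smul, Finsupp.smul_apply, smul_eq_mul, har]
  have R3 : ∀ z w : F9, b.repr (ρ G.c (ρ (G.a (0, 1)) (ρ G.c (b z)))) w =
      ch ζ z (0, 2) * (ch ζ w (0, 2) * b.repr (ρ G.c (b z)) w) := by
    intro z w
    have h2 := congrArg (fun g => ρ g (b z)) (three G H₀)
    simp only [mul_app] at h2
    rw [h2, hab, map_smul, map_smul, map_smul, Finsupp.smul_apply, smul_eq_mul, har]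
  -- sum
  have q0 := hcl 0 (z := F9.one) (by decide) F9.one
    [(0, 0, 0), (2, 0, 2), (4, 0, 4), (1, 0, 1), (0, 0, 0), (0, 0, 0), (3, 0, 3), (0, 0, 0), (0, 0, 0)] (by decide)
  rw [R0, Module.Basis.repr_self, Finsupp.single_eq_same] at q0
  have q1 := hcl (1, 0) (z := (0, 1)) (by decide) (0, 1)
    [(0, 0, 0), (3, 0, 3), (1, 0, 1), (2, 1, 2), (0, 1, 0), (0, 1, 0), (4, 2, 4), (0, 2, 0), (0, 2, 0)] (by decide)
  have q1' := hcl (2, 0) (z := (0, 1)) (by decide) (0, 1)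
    [(0, 0, 0), (3, 0, 3), (1, 0, 1), (2, 2, 2), (0, 2, 0), (0, 2, 0), (4, 1, 4), (0, 1, 0), (0, 1, 0)] (by decide)
  rw [R4, q1', show ch ζ (0, 1) (2, 0) = 1 from by unfold ch; rw [show (((0, 1) : F9).1 * ((2, 0) : F9).1 +
    ((0, 1) : F9).2 * ((2, 0) : F9).2).val = 0 from by decide, pow_zero]] at q1
  have q2 := hcl (1, 0) (z := (1, 1)) (by decide) (1, 1)
    [(0, 0, 0), (0, 0, 0), (0, 0, 0), (0, 1, 0), (4, 1, 4), (3, 1, 3), (0, 2, 0), (1, 2, 1), (2, 2, 2)] (by decide)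
  have q2' := hcl (2, 0) (z := (1, 1)) (by decide) (1, 1)
    [(0, 0, 0), (0, 0, 0), (0, 0, 0), (0, 2, 0), (4, 2, 4), (3, 2, 3), (0, 1, 0), (1, 1, 1), (2, 1, 2)] (by decide)
  rw [R4, q2', show ch ζ (1, 1) (2, 0) = ζ ^ 2 from by unfold ch; rw [show (((1, 1) : F9).1 * ((2, 0) : F9).1 +
    ((1, 1) : F9).2 * ((2, 0) : F9).2).val = 2 from by decide]] at q2
  have q3 := hcl (0, 1) (z := (1, 0)) (by decide) (2, 0)
    [(0, 0, 0), (2, 1, 4), (4, 2, 2), (1, 0, 3), (0, 1, 0), (0, 2, 0), (3, 0, 1), (0, 1, 0), (0, 2, 0)] (by decide)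
  rw [R3, hco (z := (1, 0)) (by decide), show F9.mul (1, 0) (2, 0) = (2, 0) from by decide,
    show ch ζ (1, 0) (0, 2) = 1 from by unfold ch; rw [show (((1, 0) : F9).1 * ((0, 2) : F9).1 +
    ((1, 0) : F9).2 * ((0, 2) : F9).2).val = 0 from by decide, pow_zero],
    show ch ζ (2, 0) (0, 2) = 1 from by unfold ch; rw [show (((2, 0) : F9).1 * ((0, 2) : F9).1 +
    ((2, 0) : F9).2 * ((0, 2) : F9).2).val = 0 from by decide, pow_zero]] at q3
  have q4 := hcl (0, 1) (z := (0, 1)) (by decide) (0, 1)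
    [(0, 0, 0), (3, 1, 3), (1, 2, 1), (2, 0, 2), (0, 1, 0), (0, 2, 0), (4, 0, 4), (0, 1, 0), (0, 2, 0)] (by decide)
  rw [R3, hco (z := (0, 1)) (by decide), show F9.mul (0, 1) (0, 1) = (2, 0) from by decide,
    show ch ζ (0, 1) (0, 2) = ζ ^ 2 from by unfold ch; rw [show (((0, 1) : F9).1 * ((0, 2) : F9).1 +
    ((0, 1) : F9).2 * ((0, 2) : F9).2).val = 2 from by decide]] at q4
  have k3 : b.repr (ρ G.c (b F9.one)) (2, 0) = kp b (ρ G.c (b F9.one)) 3 := rfl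
  rw [k3] at q3 q4
  simp only [List.map_cons, List.map_nil, List.sum_cons, List.sum_nil, hz0] at q0 q1 q2 q3 q4
  generalize kp b (ρ G.c (b F9.one)) 1 = m1 at *
  generalize kp b (ρ G.c (b F9.one)) 2 = m2 at *
  generalize kp b (ρ G.c (b F9.one)) 3 = m3 at *
  generalize kp b (ρ G.c (b F9.one)) 4 = m4 at *
  clear hcl har hab hco R0 R4 R3 q1' q2' k3
  have h3 := H.cube
  have key : ∀ x y : F, (x + y) ^ 2 = 0 → x = y := by
    intro x y h
    have h' : x + y = 0 := pow_eq_zero_iff (two_ne_zero) |>.1 h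
    linear_combination h' - y * e4
  have a24 : m2 = m4 := key _ _ (by
    linear_combination (m2 ^ 2 - m4 ^ 2) * e3 - q1 + (m4 ^ 2 + m2 * m4 - ζ * (m2 ^ 2 - m4 ^ 2)) * e4)
  have a34' : (1 - ζ) * (m4 ^ 2 + m3 ^ 2) = 0 := by
    linear_combination q2 - ((ζ ^ 3 + 1) * (m4 ^ 2 + m3 ^ 2) + ζ ^ 2 * (m1 ^ 2 + m2 ^ 2)) * h3
  have a34 : m3 = m4 := key _ _ (by
    have h' := (mul_eq_zero.1 a34').resolve_left (sub_ne_zero.2 H.ne_one.symm)
    linear_combination h' + m3 * m4 * e4)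
  subst a24 a34
  have hμ : m3 ^ 2 = m3 := by linear_combination q3 + m3 ^ 2 * e3 - (m3 - m1 * m3) * e4
  have h5 : ζ ^ 2 * (1 + m3) = 0 := by
    linear_combination -q4 + ζ ^ 2 * q0 + ζ * m3 * h3 - (ζ - 3 * ζ ^ 2) * hμ + (2 * ζ ^ 2 * m3 - m3 ^ 2) * e4
  have h6 : 1 + m3 = 0 := (mul_eq_zero.1 h5).resolve_left (pow_ne_zero 2 H.ne_zero)
  have h7 : m3 = 1 := by linear_combination h6 - e4
  subst h7
  refine ⟨?_, rfl, rfl, rfl⟩
  have h8 : m1 ^ 2 = 0 := by linear_combination -q0 - e4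
  exact pow_eq_zero_iff (two_ne_zero) |>.1 h8

end

end Cfsg.Agent.H95.JT
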