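import Cfsg.Agent.H898.J3Three

/-!
# Relations in `3·J₃` (helper95)
-/

set_option autoImplicit false
set_option linter.unusedSectionVars false

namespace Cfsg.Agent.H95.JT

open Cfsg.Spor Cfsg.Agent.J3.Core Cfsg.Agent.J3.Tab Cfsg.Agent.J3.Mono Cfsg.Agent.J3.Elts Matrix


theorem chk_cc : beqL (cols (compT tC tC)) (cols (tS 0)) = true := by decide +kernel
theorem chk_four : beqL (cols (compT tC (compT (tA (1, 0)) tC)))
    (cols (compT (tA (2, 0)) (compT tC (compT (tA (2, 0)) (compT tC (tA (2, 0))))))) = true := by decide +kernel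
theorem chk_three : beqL (cols (compT tC (compT (tA (0, 1)) tC)))
    (cols (compT (tA (0, 2)) (compT tC (tA (0, 2))))) = true := by decide +kernel
theorem chk_b : ∀ u : F9, u ≠ 0 → beqL (cols (powT (tB u) 8)) (cols (tS 0)) = true := by decide +kernel
theorem chk_eb : beqL (cols (compT tE (tB (1, 1)))) (cols (compT (tB (1, 1)) (powT tE 2))) = true := by
  decide +kernel
theorem chk_a0 : beqL (cols (tA 0)) (cols (tS 0)) = true := by decide +kernel
theorem chk_d0 : beqL (cols (tD 0)) (cols (tS 0)) = true := by decide +kernel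
theorem chk_b1 : beqL (cols (tB F9.one)) (cols (tS 0)) = true := by decide +kernel

section
variable {F : Type*} [Field F] {ω : F} (G : Gens F ω) (H : Good ω)
include H

theorem rA (Z : F9) : RepG ω (tA Z) (G.a Z) := by unfold RepG; rw [G.ha]; exact repA H Z
theorem rD (Z : F9) : RepG ω (tD Z) (G.d Z) := by unfold RepG; rw [G.hd]; exact repD H Z
theorem rB (Z : F9) (hZ : Z ≠ 0) : RepG ω (tB Z) (G.b Z) := by unfold RepG; rw [G.hb Z hZ]; exact repB H Z hZ
theorem rE : RepG ω tE G.e := by unfold RepG; rw [G.he]; exact repE H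
theorem rC : RepG ω tC G.c := by unfold RepG; rw [G.hc]; exact repC H

theorem c_sq : G.c * G.c = 1 := ((rC G H).mul (rC G H)).ext (repG_one H) (beqL_eq chk_cc)

theorem four : G.c * (G.a (1, 0) * G.c) = G.a (2, 0) * (G.c * (G.a (2, 0) * (G.c * G.a (2, 0)))) :=
  ((rC G H).mul ((rA G H _).mul (rC G H))).ext
    ((rA G H _).mul ((rC G H).mul ((rA G H _).mul ((rC G H).mul (rA G H _))))) (beqL_eq chk_four)

theorem three : G.c * (G.a (0, 1) * G.c) = G.a (0, 2) * (G.c * G.a (0, 2)) :=
  ((rC G H).mul ((rA G H _).mul (rC G H))).ext ((rA G H _).mul ((rC G H).mul (rA G H _))) (beqL_eq chk_three)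

theorem b_pow (u : F9) (hu : u ≠ 0) : G.b u ^ 8 = 1 :=
  ((rB G H u hu).pow H 8).ext (repG_one H) (beqL_eq (chk_b u hu))

theorem eb : G.e * G.b (1, 1) = G.b (1, 1) * G.e ^ 2 :=
  ((rE G H).mul (rB G H _ (by decide))).ext ((rB G H _ (by decide)).mul ((rE G H).pow H 2)) (beqL_eq chk_eb)

theorem a_zero : G.a 0 = 1 := (rA G H 0).ext (repG_one H) (beqL_eq chk_a0)

theorem d_zero : G.d 0 = 1 := (rD G H 0).ext (repG_one H) (beqL_eq chk_d0)

theorem b_one : G.b F9.one = 1 := (rB G H _ one_ne).ext (repG_one H) (beqL_eq chk_b1)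

theorem cb (u : F9) (hu : u ≠ 0) : G.c * G.b u = G.b (F9.inv u) * G.c := by
  apply mat_injective
  rw [map_mul, map_mul, G.hc, G.hb u hu, G.hb _ (inv_ne u hu)]
  exact relCB H u hu

theorem ce : G.c * G.e = G.e * G.c := by
  apply mat_injective
  rw [map_mul, map_mul, G.hc, G.he]
  exact relCE H

theorem db (Z u : F9) (hu : u ≠ 0) : G.d Z * G.b u = G.b u * G.d (F9.div Z u) := by
  apply mat_injective
  rw [map_mul, map_mul, G.hb u hu, G.hd, G.hd]
  exact relDB H Z u hu

theorem ab (Z u : F9) (hu : u ≠ 0) : G.a Z * G.b u = G.b u * G.a (F9.mul (conj9 u) Z) := by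
  apply mat_injective
  rw [map_mul, map_mul, G.hb u hu, G.ha, G.ha]
  exact relAB H Z u hu

end

/-! ### characters of `F9` -/

theorem two_one {F : Type*} [Field F] {ω : F} (H : Good ω) {x : F} (h : x ^ 2 = 1) : x = 1 := by
  have h1 : (x + 1) ^ 2 = 0 := by
    have h2 := H.add_self x
    have h3 := H.two
    linear_combination h + h2 + h3
  have h2 : x + 1 = 0 := pow_eq_zero_iff (two_ne_zero) |>.1 h1
  have h3 := H.two
  linear_combination h2 - h3

theorem eight_one {F : Type*} [Field F] {ω : F} (H : Good ω) {x : F} (h : x ^ 8 = 1) : x = 1 := by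
  have h1 : (x ^ 4) ^ 2 = 1 := by rw [← pow_mul]; exact h
  have h2 : (x ^ 2) ^ 2 = 1 := by rw [← pow_mul]; exact two_one H h1
  exact two_one H (two_one H h2)

section
variable {F : Type*} [Field F] {ω : F}

/-- the character -/
def ch (ω : F) (z x : F9) : F := ω ^ (z.1 * x.1 + z.2 * x.2).val

theorem pow_val_add (H : Good ω) (m n : ZMod 3) : ω ^ (m + n).val = ω ^ m.val * ω ^ n.val := by
  have h3 := H.cube
  have key : ∀ m n : ZMod 3, (m + n).val = m.val + n.val ∨ (m + n).val + 3 = m.val + n.val := by decide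
  rw [← pow_add]
  rcases key m n with h | h
  · rw [h]
  · rw [← h, pow_add, h3, mul_one]

theorem ch_add_left (H : Good ω) (z w x : F9) : ch ω (z + w) x = ch ω z x * ch ω w x := by
  unfold ch
  rw [← pow_val_add H]
  congr 2
  change (z.1 + w.1) * x.1 + (z.2 + w.2) * x.2 = _
  ring

theorem ch_add_right (H : Good ω) (z x y : F9) : ch ω z (x + y) = ch ω z x * ch ω z y := by
  unfold ch
  rw [← pow_val_add H]
  congr 2
  change z.1 * (x.1 + y.1) + z.2 * (x.2 + y.2) = _
  ring

theorem ch_zero_left (x : F9) : ch ω 0 x = 1 := by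
  unfold ch
  have : ((0 : F9).1 * x.1 + (0 : F9).2 * x.2 : ZMod 3) = 0 := by
    change (0 : ZMod 3) * x.1 + 0 * x.2 = 0
    ring
  rw [this, ZMod.val_zero, pow_zero]

theorem ch_zero_right (z : F9) : ch ω z 0 = 1 := by
  unfold ch
  have : (z.1 * (0 : F9).1 + z.2 * (0 : F9).2 : ZMod 3) = 0 := by
    change z.1 * (0 : ZMod 3) + z.2 * 0 = 0
    ring
  rw [this, ZMod.val_zero, pow_zero]

theorem ch_ne (H : Good ω) (z x : F9) : ch ω z x ≠ 0 := pow_ne_zero _ H.ne_zero

theorem univ9 : (Finset.univ : Finset F9) =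
    {(0, 0), (0, 1), (0, 2), (1, 0), (1, 1), (1, 2), (2, 0), (2, 1), (2, 2)} := by decide

theorem sum9 {M : Type*} [AddCommMonoid M] (f : F9 → M) : ∑ z, f z = f (0, 0) + f (0, 1) + f (0, 2) + f (1, 0) +
    f (1, 1) + f (1, 2) + f (2, 0) + f (2, 1) + f (2, 2) := by
  rw [univ9]
  rw [Finset.sum_insert (by decide), Finset.sum_insert (by decide), Finset.sum_insert (by decide),
    Finset.sum_insert (by decide), Finset.sum_insert (by decide), Finset.sum_insert (by decide),
    Finset.sum_insert (by decide), Finset.sum_insert (by decide), Finset.sum_singleton]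
  abel

/-- a nontrivial value -/
theorem exists_ch_ne (H : Good ω) {x : F9} (hx : x ≠ 0) : ∃ w : F9, ch ω w x ≠ 1 := by
  have key : ∀ x : F9, x ≠ 0 → ∃ w : F9, (w.1 * x.1 + w.2 * x.2) = 1 := by decide
  obtain ⟨w, hw⟩ := key x hx
  refine ⟨w, ?_⟩
  unfold ch
  rw [hw]
  have : (1 : ZMod 3).val = 1 := rfl
  rw [this, pow_one]
  exact H.ne_one

theorem ch_comm (z x : F9) : ch ω z x = ch ω x z := by
  unfold ch
  congr 2
  ring

/-- orthogonality -/
theorem sum_ch (H : Good ω) (x : F9) : ∑ z, ch ω z x = if x = 0 then 1 else 0 := by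
  split_ifs with h
  · subst h
    rw [sum9]
    simp only [ch_zero_right]
    have h3 := H.two
    linear_combination 4 * h3
  · obtain ⟨w, hw⟩ := exists_ch_ne H h
    have h1 : ch ω w x * ∑ z, ch ω z x = ∑ z, ch ω z x := by
      rw [Finset.mul_sum]
      rw [← Equiv.sum_comp (Equiv.addLeft w) (fun z => ch ω z x)]
      refine Finset.sum_congr rfl fun z _ => ?_
      rw [Equiv.coe_addLeft, ch_add_left H]
    have h2 : (ch ω w x - 1) * ∑ z, ch ω z x = 0 := by rw [sub_mul, h1, one_mul, sub_self]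
    exact (mul_eq_zero.1 h2).resolve_left (sub_ne_zero.2 hw)

end

end Cfsg.Agent.H95.JT
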