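import Cfsg.Agent.H95.JT.Act

/-!
# Representations of `3·J₃` in characteristic 2 of degree less than 18 are unitary for `x ↦ x²` (helper95)
-/

set_option autoImplicit false
set_option linter.unusedSectionVars false

namespace Cfsg.Agent.H95.JT

open Cfsg.Spor Cfsg.Agent.J3.Core Cfsg.Agent.J3.Tab Cfsg.Agent.J3.Mono Cfsg.Agent.J3.Elts Matrix
open Cfsg.Agent.H898.J3Three

theorem mul_comm9 : ∀ z w : F9, F9.mul z w = F9.mul w z := by decide
theorem mul_bij9 : ∀ u : F9, u ≠ 0 → Function.Bijective (F9.mul u) := by decide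
theorem cm_le : ∀ z : F9, cm z = 0 ∨ cm z = 1 ∨ cm z = 2 ∨ cm z = 3 ∨ cm z = 4 := by decide

section
variable {F₀ : Type*} [Field F₀] {ω : F₀} (G : Gens F₀ ω) (H₀ : Good ω) {s0 : threeJ3 F₀ ω} (hs0 : mat ω s0 = ω • 1)
  {F : Type*} [Field F] {ζ : F} (H : Good ζ) {V : Type*} [AddCommGroup V] [Module F V]
  (ρ : threeJ3 F₀ ω →* Module.End F V) (b : Module.Basis F9 F V) (σ : F →+* F) (hσ : ∀ x, σ x = x ^ 2)

/-- the matrices -/
noncomputable def RM : threeJ3 F₀ ω →* Matrix F9 F9 F :=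
  (LinearMap.toMatrixAlgEquiv b : Module.End F V →* Matrix F9 F9 F).comp ρ

theorem RM_apply (g : threeJ3 F₀ ω) (w z : F9) : RM ρ b g w z = b.repr (ρ g (b z)) w :=
  LinearMap.toMatrixAlgEquiv_apply b (ρ g) w z

theorem trace_RM (g : threeJ3 F₀ ω) : (RM ρ b g).trace = LinearMap.trace F V (ρ g) := by
  rw [LinearMap.trace_eq_matrix_trace F b (ρ g)]
  rfl

theorem conj_mul (A B : Matrix F9 F9 F) : ((A * B).map σ)ᵀ = (B.map σ)ᵀ * (A.map σ)ᵀ := by
  rw [Matrix.map_mul, Matrix.transpose_mul]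

theorem conj_one : ((1 : Matrix F9 F9 F).map σ)ᵀ = 1 := by
  rw [Matrix.map_one σ (map_zero σ) (map_one σ), Matrix.transpose_one]

theorem inv_eq {g : threeJ3 F₀ ω} (h : RM ρ b g * ((RM ρ b g).map σ)ᵀ = 1) : RM ρ b g⁻¹ = ((RM ρ b g).map σ)ᵀ := by
  have h1 : RM ρ b g⁻¹ * RM ρ b g = 1 := by rw [← map_mul, inv_mul_cancel, map_one]
  calc RM ρ b g⁻¹ = RM ρ b g⁻¹ * (RM ρ b g * ((RM ρ b g).map σ)ᵀ) := by rw [h, mul_one]
    _ = _ := by rw [← mul_assoc, h1, one_mul]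

/-- the unitary elements -/
def U : Subgroup (threeJ3 F₀ ω) where
  carrier := {g | RM ρ b g * ((RM ρ b g).map σ)ᵀ = 1}
  one_mem' := by
    show RM ρ b 1 * ((RM ρ b 1).map σ)ᵀ = 1
    rw [map_one, conj_one, one_mul]
  mul_mem' := by
    intro g h hg hh
    show RM ρ b (g * h) * ((RM ρ b (g * h)).map σ)ᵀ = 1
    have hg' : RM ρ b g * ((RM ρ b g).map σ)ᵀ = 1 := hg
    have hh' : RM ρ b h * ((RM ρ b h).map σ)ᵀ = 1 := hh
    rw [map_mul, conj_mul]
    calc RM ρ b g * RM ρ b h * (((RM ρ b h).map σ)ᵀ * ((RM ρ b g).map σ)ᵀ)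
        = RM ρ b g * (RM ρ b h * ((RM ρ b h).map σ)ᵀ) * ((RM ρ b g).map σ)ᵀ := by simp only [mul_assoc]
      _ = 1 := by rw [hh', mul_one, hg']
  inv_mem' := by
    intro g hg
    show RM ρ b g⁻¹ * ((RM ρ b g⁻¹).map σ)ᵀ = 1
    have h1 : RM ρ b g⁻¹ * RM ρ b g = 1 := by rw [← map_mul, inv_mul_cancel, map_one]
    have h2 := congrArg (fun A : Matrix F9 F9 F => (A.map σ)ᵀ) h1
    simp only [conj_mul, conj_one] at h2
    nth_rewrite 1 [inv_eq ρ b σ hg]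
    exact h2

theorem mem_U {g : threeJ3 F₀ ω} : g ∈ U ρ b σ ↔ RM ρ b g * ((RM ρ b g).map σ)ᵀ = 1 := Iff.rfl

include H hσ in
/-- monomial elements are unitary -/
theorem mono_mem {g : threeJ3 F₀ ω} (π : F9 ≃ F9) (n : F9 → ℕ) (hg : ∀ z, ρ g (b z) = ζ ^ n z • b (π z)) :
    g ∈ U ρ b σ := by
  rw [mem_U]
  have h1 : ∀ w z, RM ρ b g w z = if π z = w then ζ ^ n z else 0 := by
    intro w z
    rw [RM_apply, hg, map_smul, Finsupp.smul_apply, Module.Basis.repr_self, Finsupp.single_apply, smul_eq_mul]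
    split_ifs
    · rw [mul_one]
    · rw [mul_zero]
  ext w w'
  rw [Matrix.mul_apply]
  have h2 : ∀ z, RM ρ b g w z * ((RM ρ b g).map σ)ᵀ z w' = if π z = w then (if w = w' then 1 else 0) else 0 := by
    intro z
    rw [Matrix.transpose_apply, Matrix.map_apply, h1, h1]
    by_cases hz : π z = w
    · rw [if_pos hz, if_pos hz, hz]
      by_cases hw : w = w'
      · rw [if_pos hw, if_pos hw, hσ, ← pow_mul, ← pow_add, show n z + n z * 2 = 3 * n z by ring, pow_mul, H.cube,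
          one_pow]
      · rw [if_neg hw, if_neg hw, map_zero, mul_zero]
    · rw [if_neg hz, if_neg hz, zero_mul]
  rw [Finset.sum_congr rfl fun z _ => h2 z, Finset.sum_eq_single (π.symm w)]
  · rw [π.apply_symm_apply, if_pos rfl, Matrix.one_apply]
  · intro z _ hz
    rw [if_neg]
    intro h
    exact hz (by rw [← h, π.symm_apply_apply])
  · intro h; exact absurd (Finset.mem_univ _) h

end

section
variable {F₀ : Type*} [Field F₀] {ω : F₀} (G : Gens F₀ ω) (H₀ : Good ω) {s0 : threeJ3 F₀ ω} (hs0 : mat ω s0 = ω • 1)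
  {F : Type*} [Field F] {ζ : F} (H : Good ζ) {V : Type*} [AddCommGroup V] [Module F V]
  (ρ : threeJ3 F₀ ω →* Module.End F V) (hρ : ∀ v, ρ s0 v = ζ • v)
  {v0 : V} (h0 : v0 ∈ W0 G ρ) (h1 : v0 ≠ 0) (hW : ∀ w ∈ W0 G ρ, ∃ c : F, w = c • v0)
  (b : Module.Basis F9 F V) (hb : ∀ z, b z = ρ (G.d z) v0) (σ : F →+* F) (hσ : ∀ x, σ x = x ^ 2)
include H₀ hs0 H hρ h0 h1 hW hb hσ

theorem c_mem : G.c ∈ U ρ b σ := by
  obtain ⟨m1, m2, m3, m4⟩ := solve G H₀ hs0 H ρ hρ h0 h1 hW b hb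
  have hs : ∀ w z, RM ρ b G.c w z = RM ρ b G.c z w := by
    intro w z
    rw [RM_apply, RM_apply]
    by_cases hz : z = 0
    · subst hz
      by_cases hw : w = 0
      · subst hw; rfl
      · rw [c_repr G H₀ hs0 H ρ hρ h0 h1 hW b hb (z := 0) (w := w), c_repr G H₀ hs0 H ρ hρ h0 h1 hW b hb (z := w) (w := 0)]
        · intro h; exact hw ((nrm_eq_zero w).1 (h.trans ((nrm_eq_zero 0).2 rfl)))
        · intro h; exact hw ((nrm_eq_zero w).1 (h.symm.trans ((nrm_eq_zero 0).2 rfl)))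
    · by_cases hw : w = 0
      · subst hw
        rw [c_repr G H₀ hs0 H ρ hρ h0 h1 hW b hb (z := 0) (w := z), c_repr G H₀ hs0 H ρ hρ h0 h1 hW b hb (z := z) (w := 0)]
        · intro h; exact hz ((nrm_eq_zero z).1 (h.trans ((nrm_eq_zero 0).2 rfl)))
        · intro h; exact hz ((nrm_eq_zero z).1 (h.symm.trans ((nrm_eq_zero 0).2 rfl)))
      · rw [c_coef G H₀ hs0 H ρ hρ h0 h1 hW b hb hz, c_coef G H₀ hs0 H ρ hρ h0 h1 hW b hb hw, mul_comm9]
  have h01 : ∀ w z, RM ρ b G.c w z = 0 ∨ RM ρ b G.c w z = 1 := by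
    intro w z
    rw [RM_apply]
    by_cases hz : z = 0
    · subst hz
      rw [c_v0 G H₀ hs0 H ρ hρ h0 h1 hW b hb, Module.Basis.repr_self, Finsupp.single_apply]
      split_ifs
      · right; rfl
      · left; rfl
    · rw [c_coef G H₀ hs0 H ρ hρ h0 h1 hW b hb hz, coef_eq G H₀ hs0 H ρ hρ h0 h1 hW b hb]
      rcases cm_le (F9.mul z w) with h | h | h | h | h
      · rw [h]; left; rfl
      · rw [h, m1]; left; rfl
      · rw [h, m2]; right; rfl
      · rw [h, m3]; right; rfl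
      · rw [h, m4]; right; rfl
  rw [mem_U]
  have h2 : ((RM ρ b G.c).map σ)ᵀ = RM ρ b G.c := by
    ext w z
    rw [Matrix.transpose_apply, Matrix.map_apply, hs w z]
    rcases h01 z w with h | h
    · rw [h, map_zero]
    · rw [h, map_one]
  rw [h2, ← map_mul, c_sq G H₀, map_one]

theorem U_top : U ρ b σ = ⊤ := by
  refine G.eq_top H₀ ?_ ?_ ?_ ?_ ?_ (c_mem G H₀ hs0 H ρ hρ h0 h1 hW b hb σ hσ)
  · intro x n hx
    have h2 : x = s0 ^ n := mat_injective (by rw [hx, mat_s0_pow H₀ hs0])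
    rw [h2]
    exact mono_mem H ρ b σ hσ (Equiv.refl _) (fun _ => n) fun z => s0_pow_app ρ hρ n _
  · intro x
    exact mono_mem H ρ b σ hσ (Equiv.refl _) (fun z => (z.1 * x.1 + z.2 * x.2).val) fun z =>
      a_b G H₀ hs0 H ρ hρ h0 b hb x z
  · intro w
    choose n hn using fun z => d_b G H₀ hs0 H ρ hρ h0 h1 hW b hb w z
    exact mono_mem H ρ b σ hσ (Equiv.addLeft w) n hn
  · intro u hu
    refine mono_mem H ρ b σ hσ (Equiv.ofBijective _ (mul_bij9 u hu)) (fun _ => 0) fun z => ?_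
    rw [pow_zero, one_smul]
    exact b_b G H₀ hs0 H ρ hρ h0 h1 hW b hb hu z
  · exact mono_mem H ρ b σ hσ (Equiv.refl _) nrm fun z => e_b G H₀ hs0 H ρ hρ h0 h1 hW b hb z

end

/-- **Main theorem**: representations of `3·J₃` of degree `< 18` in characteristic 2, the center acting faithfully. -/
theorem main {F₀ : Type*} [Field F₀] [Fintype F₀] (hF₀ : Fintype.card F₀ = 4) {ω : F₀} (H₀ : Good ω)
    {s0 : threeJ3 F₀ ω} (hs0 : mat ω s0 = ω • 1)
    {F : Type*} [Field F] {ζ : F} (H : Good ζ) {V : Type*} [AddCommGroup V] [Module F V] [FiniteDimensional F V]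
    [Nontrivial V] (hV : Module.finrank F V < 18) (ρ : threeJ3 F₀ ω →* Module.End F V) (hρ : ∀ v, ρ s0 v = ζ • v)
    (σ : F →+* F) (hσ : ∀ x, σ x = x ^ 2) :
    Module.finrank F V = 9 ∧ ∀ g, (LinearMap.trace F V (ρ g)) ^ 2 = LinearMap.trace F V (ρ g⁻¹) := by
  obtain ⟨G⟩ := exists_gens hF₀ H₀
  obtain ⟨v0, h0, h1, hW⟩ := exists_v0 G H₀ hs0 H ρ hρ hV
  obtain ⟨b, hb⟩ := exists_basis G H₀ hs0 H ρ hρ hV h0 h1
  refine ⟨finrank_nine G H₀ hs0 H ρ hρ hV, fun g => ?_⟩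
  have hg : g ∈ U ρ b σ := by rw [U_top G H₀ hs0 H ρ hρ h0 h1 hW b hb σ hσ]; exact Subgroup.mem_top g
  rw [← trace_RM ρ b, ← trace_RM ρ b, inv_eq ρ b σ hg, Matrix.trace_transpose, ← hσ]
  unfold Matrix.trace
  rw [map_sum]
  rfl

end Cfsg.Agent.H95.JT
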