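import Cfsg.Agent.H95.JT.Rel

/-!
# Representations of `3·J₃` in characteristic 2 of degree less than 18: the basis (helper95)

`rho : 3·J₃ → GL(V)` with the central element acting as a primitive cube root of unity `ζ`, `dim V < 18`. Then
`dim V = 9` and there is a vector `v0` such that the `d_z v0` form a basis with the natural action of the monomial group.
-/

set_option autoImplicit false
set_option linter.unusedSectionVars false

namespace Cfsg.Agent.H95.JT

open Cfsg.Spor Cfsg.Agent.J3.Core Cfsg.Agent.J3.Tab Cfsg.Agent.J3.Mono Cfsg.Agent.J3.Elts Matrix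
open Cfsg.Agent.H898.J3Three

section
variable {F₀ : Type*} [Field F₀] {ω : F₀} (G : Gens F₀ ω) (H₀ : Good ω) {s0 : threeJ3 F₀ ω} (hs0 : mat ω s0 = ω • 1)
  {F : Type*} [Field F] {ζ : F} (H : Good ζ) {V : Type*} [AddCommGroup V] [Module F V]
  (ρ : threeJ3 F₀ ω →* Module.End F V) (hρ : ∀ v, ρ s0 v = ζ • v)

theorem mul_app (g h : threeJ3 F₀ ω) (v : V) : ρ (g * h) v = ρ g (ρ h v) := by rw [map_mul]; rfl

theorem one_app (v : V) : ρ 1 v = v := by rw [map_one]; rfl

theorem inv_app (g : threeJ3 F₀ ω) (v : V) : ρ g⁻¹ (ρ g v) = v := by rw [← mul_app, inv_mul_cancel, one_app]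

theorem app_inv (g : threeJ3 F₀ ω) (v : V) : ρ g (ρ g⁻¹ v) = v := by rw [← mul_app, mul_inv_cancel, one_app]

theorem app_inj (g : threeJ3 F₀ ω) {v w : V} (h : ρ g v = ρ g w) : v = w := by
  rw [← inv_app ρ g v, h, inv_app]

include hρ in
theorem s0_pow_app (n : ℕ) (v : V) : ρ (s0 ^ n) v = ζ ^ n • v := by
  induction n generalizing v with
  | zero => rw [pow_zero, one_app, pow_zero, one_smul]
  | succ n ih => rw [pow_succ, mul_app, hρ, ih, smul_smul, pow_succ]

/-- the fixed vectors of `A` -/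
def W0 : Submodule F V where
  carrier := {v | ∀ x, ρ (G.a x) v = v}
  add_mem' := by intro v w hv hw x; rw [map_add, hv, hw]
  zero_mem' := by intro x; rw [map_zero]
  smul_mem' := by intro c v hv x; rw [map_smul, hv]

theorem mem_W0 {v : V} : v ∈ W0 G ρ ↔ ∀ x, ρ (G.a x) v = v := Iff.rfl

/-- the projection onto the weight space of `z` -/
noncomputable def pj (ζ : F) (z : F9) : Module.End F V := ∑ x, ch ζ z (-x) • ρ (G.a x)

theorem pj_app (z : F9) (v : V) : pj G ρ ζ z v = ∑ x, ch ζ z (-x) • ρ (G.a x) v := by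
  unfold pj
  rw [LinearMap.sum_apply]
  rfl

include H₀ H

theorem a_pj (z y : F9) (v : V) : ρ (G.a y) (pj G ρ ζ z v) = ch ζ z y • pj G ρ ζ z v := by
  rw [pj_app, map_sum, Finset.smul_sum, ← Equiv.sum_comp (Equiv.addLeft y) (fun x => ch ζ z y • ch ζ z (-x) • ρ (G.a x) v)]
  refine Finset.sum_congr rfl fun x _ => ?_
  rw [map_smul, ← mul_app, aa G H₀, Equiv.coe_addLeft, smul_smul, ← ch_add_right H]
  rw [neg_add, add_neg_cancel_left]

theorem sum_pj (v : V) : ∑ z, pj G ρ ζ z v = v := by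
  simp only [pj_app]
  rw [Finset.sum_comm]
  have h1 : ∀ x : F9, ∑ z, ch ζ z (-x) • ρ (G.a x) v = if x = 0 then v else 0 := by
    intro x
    rw [← Finset.sum_smul, sum_ch H]
    by_cases hx : x = 0
    · subst hx
      rw [neg_zero, if_pos rfl, if_pos rfl, one_smul, a_zero G H₀, one_app]
    · rw [if_neg (by rwa [neg_eq_zero]), if_neg hx, zero_smul]
  rw [Finset.sum_congr rfl fun x _ => h1 x, Finset.sum_ite_eq' Finset.univ (0 : F9)]
  simp

include hs0 hρ

/-- `d_w` permutes the weight spaces -/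
theorem a_d (x w : F9) (v : V) : ρ (G.a x) (ρ (G.d w) v) = ch ζ w x • ρ (G.d w) (ρ (G.a x) v) := by
  have h1 : ρ (G.d w) (ρ (G.a x) v) = ζ ^ dot w x • ρ (G.a x) (ρ (G.d w) v) := by
    rw [← mul_app, da G H₀ hs0, mul_app, s0_pow_app ρ hρ, mul_app]
  rw [h1, smul_smul]
  unfold ch dot
  rw [← pow_val_add H, add_neg_cancel, ZMod.val_zero, pow_zero, one_smul]

theorem pj_d (z w : F9) (v : V) : pj G ρ ζ (z + w) (ρ (G.d w) v) = ρ (G.d w) (pj G ρ ζ z v) := by
  rw [pj_app, pj_app, map_sum]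
  refine Finset.sum_congr rfl fun x _ => ?_
  rw [a_d G H₀ hs0 H ρ hρ, map_smul, smul_smul]
  congr 1
  rw [ch_add_left H, mul_assoc, ← ch_add_right H, neg_add_cancel, ch_zero_right, mul_one]

omit hs0 hρ in
theorem pj_mem (v : V) : pj G ρ ζ 0 v ∈ W0 G ρ := by
  intro x
  rw [a_pj G H₀ H ρ, ch_zero_left, one_smul]

omit H₀ hs0 hρ in
theorem pj_W0 {v : V} (hv : v ∈ W0 G ρ) (z : F9) : pj G ρ ζ z v = if z = 0 then v else 0 := by
  rw [pj_app]
  have h1 : ∀ x : F9, ch ζ z (-x) • ρ (G.a x) v = ch ζ z (-x) • v := fun x => by rw [hv x]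
  rw [Finset.sum_congr rfl fun x _ => h1 x, ← Finset.sum_smul,
    ← Equiv.sum_comp (Equiv.neg F9) (fun x => ch ζ z (-x))]
  have h2 : ∑ x : F9, ch ζ z (-(Equiv.neg F9 x)) = ∑ x, ch ζ x z := by
    refine Finset.sum_congr rfl fun x _ => ?_
    rw [Equiv.neg_apply, neg_neg, ch_comm]
  rw [h2, sum_ch H]
  split_ifs
  · rw [one_smul]
  · rw [zero_smul]

/-- the sum of the translates of the fixed space -/
noncomputable def T : (F9 → W0 G ρ) →ₗ[F] V where
  toFun f := ∑ z, ρ (G.d z) (f z : V)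
  map_add' f g := by
    rw [← Finset.sum_add_distrib]
    refine Finset.sum_congr rfl fun z _ => ?_
    rw [Pi.add_apply, Submodule.coe_add, map_add]
  map_smul' c f := by
    rw [RingHom.id_apply, Finset.smul_sum]
    refine Finset.sum_congr rfl fun z _ => ?_
    rw [Pi.smul_apply, Submodule.coe_smul, map_smul]

theorem pj_T (f : F9 → W0 G ρ) (y : F9) : pj G ρ ζ y (T G ρ f) = ρ (G.d y) (f y : V) := by
  show pj G ρ ζ y (∑ z, ρ (G.d z) (f z : V)) = _
  rw [map_sum]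
  rw [Finset.sum_eq_single y]
  · have h1 := pj_d G H₀ hs0 H ρ hρ 0 y (f y : V)
    rw [zero_add] at h1
    rw [h1, pj_W0 G H ρ (f y).2, if_pos rfl]
  · intro z _ hz
    have h1 := pj_d G H₀ hs0 H ρ hρ (y - z) z (f z : V)
    rw [sub_add_cancel] at h1
    rw [h1, pj_W0 G H ρ (f z).2, if_neg (fun h => hz (sub_eq_zero.1 h).symm), map_zero]
  · intro h; exact absurd (Finset.mem_univ _) h

theorem T_injective : Function.Injective (T G ρ) := by
  rw [← LinearMap.ker_eq_bot, LinearMap.ker_eq_bot']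
  intro f hf
  funext y
  have h1 := pj_T G H₀ hs0 H ρ hρ f y
  rw [hf, map_zero] at h1
  have h2 : ((f y : W0 G ρ) : V) = 0 := app_inj ρ (G.d y) (by rw [← h1, map_zero])
  exact Subtype.ext h2

theorem T_surjective : Function.Surjective (T G ρ) := by
  intro v
  have hm : ∀ z, ρ (G.d z)⁻¹ (pj G ρ ζ z v) ∈ W0 G ρ := by
    intro z
    have h1 := pj_d G H₀ hs0 H ρ hρ 0 z (ρ (G.d z)⁻¹ v)
    rw [zero_add, app_inv] at h1
    rw [h1, inv_app]
    exact pj_mem G H₀ H ρ _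
  refine ⟨fun z => ⟨_, hm z⟩, ?_⟩
  show ∑ z, ρ (G.d z) (ρ (G.d z)⁻¹ (pj G ρ ζ z v)) = v
  simp only [app_inv]
  exact sum_pj G H₀ H ρ v

theorem finrank_eq [FiniteDimensional F V] : Module.finrank F V = 9 * Module.finrank F (W0 G ρ) := by
  have e := LinearEquiv.ofBijective (T G ρ) ⟨T_injective G H₀ hs0 H ρ hρ, T_surjective G H₀ hs0 H ρ hρ⟩
  rw [← e.finrank_eq, Module.finrank_pi_fintype, Finset.sum_const, smul_eq_mul]
  congr 1

variable [FiniteDimensional F V] [Nontrivial V] (hV : Module.finrank F V < 18)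
include G hV

theorem finrank_W0 : Module.finrank F (W0 G ρ) = 1 := by
  have h1 := finrank_eq G H₀ hs0 H ρ hρ
  have h2 : 0 < Module.finrank F V := Module.finrank_pos
  omega

theorem finrank_nine : Module.finrank F V = 9 := by
  rw [finrank_eq G H₀ hs0 H ρ hρ, finrank_W0 G H₀ hs0 H ρ hρ hV]

theorem exists_v0 : ∃ v0 : V, v0 ∈ W0 G ρ ∧ v0 ≠ 0 ∧ ∀ w ∈ W0 G ρ, ∃ c : F, w = c • v0 := by
  obtain ⟨v, hv, h⟩ := finrank_eq_one_iff'.1 (finrank_W0 G H₀ hs0 H ρ hρ hV)
  refine ⟨v, v.2, fun h0 => hv (Subtype.ext h0), fun w hw => ?_⟩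
  obtain ⟨c, hc⟩ := h ⟨w, hw⟩
  exact ⟨c, (congrArg Subtype.val hc).symm⟩

/-- the basis -/
theorem exists_basis {v0 : V} (h0 : v0 ∈ W0 G ρ) (h1 : v0 ≠ 0) :
    ∃ b : Module.Basis F9 F V, ∀ z, b z = ρ (G.d z) v0 := by
  have hli : LinearIndependent F (fun z : F9 => ρ (G.d z) v0) := by
    rw [Fintype.linearIndependent_iff]
    intro g hg y
    have h2 : T G ρ (fun z => g z • ⟨v0, h0⟩) = 0 := by
      rw [← hg]
      show ∑ z, ρ (G.d z) (((g z • (⟨v0, h0⟩ : W0 G ρ)) : W0 G ρ) : V) = _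
      refine Finset.sum_congr rfl fun z _ => ?_
      rw [Submodule.coe_smul, map_smul]
    have h3 : (fun z => g z • (⟨v0, h0⟩ : W0 G ρ)) = 0 := T_injective G H₀ hs0 H ρ hρ (by rw [h2, map_zero])
    have h4 := congrArg Subtype.val (congrFun h3 y)
    exact (smul_eq_zero.1 h4).resolve_right h1
  refine ⟨basisOfLinearIndependentOfCardEqFinrank hli ?_, fun z => ?_⟩
  · rw [finrank_nine G H₀ hs0 H ρ hρ hV]; decide
  · rw [coe_basisOfLinearIndependentOfCardEqFinrank]

end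

end Cfsg.Agent.H95.JT
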